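import Cfsg.Agent.Lib.Helper52.AppC.Core
import Cfsg.Agent.Lib.Helper25.AppCField
import Cfsg.Agent.Lib.Helper48.AppCTheta

/-!
# Bender–Glauberman Appendix C: instantiating the abstract core from the field data
-/

set_option autoImplicit false
set_option linter.style.haveILetI false
set_option linter.unusedSectionVars false

namespace Cfsg.Agent.Lib.Helper52.AppC

open Subgroup

/-- The hypotheses of the frozen statement S1472 (with `p ≠ 2`). -/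
structure Setup {G : Type*} [Group G] (p q : ℕ) (F : Type*) [Field F] [Fintype F]
    (P U Q : Subgroup G) (f ψ : G → F) (y : G) : Prop where
  hp2 : p ≠ 2
  hA : Nat.Coprime ((p ^ q - 1) / (p - 1)) (p - 1)
  hF : Fintype.card F = p ^ q
  hf : Set.BijOn f (P : Set G) Set.univ
  hfadd : ∀ x ∈ P, ∀ z ∈ P, f (x * z) = f x + f z
  hUP : U ≤ Subgroup.normalizer (P : Set G)
  hψ : ∀ u ∈ U, ψ u ≠ 0 ∧ ∀ x ∈ P, f (u * x * u⁻¹) = ψ u * f x
  hψmul : ∀ u ∈ U, ∀ v ∈ U, ψ (u * v) = ψ u * ψ v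
  hψinj : Set.InjOn ψ (U : Set G)
  hUcard : Nat.card U * (p - 1) = p ^ q - 1
  hQ : ∀ a ∈ Q, ∀ b ∈ Q, a * b = b * a
  hQp : (Nat.card Q).Coprime p
  hP0Q : ∀ x ∈ P, f x ^ p = f x → x ∈ Subgroup.normalizer (Q : Set G)
  hy : y ∈ Q
  hP0U : ∀ x ∈ P, f x ^ p = f x → y * x * y⁻¹ ∈ Subgroup.normalizer (U : Set G)

namespace Setup

variable {G : Type*} [Group G] [Finite G] {p q : ℕ} [hp : Fact p.Prime] [hq : Fact q.Prime]
  {F : Type*} [Field F] [Fintype F] {P U Q : Subgroup G} {f ψ : G → F} {y : G}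
  (S : Setup p q F P U Q f ψ y)
include S

theorem charP : CharP F p := charP_of_card_eq_prime_pow S.hF

theorem f_inj {x z : G} (hx : x ∈ P) (hz : z ∈ P) (h : f x = f z) : x = z :=
  S.hf.injOn hx hz h

theorem f_one : f 1 = 0 := by
  have := S.hfadd 1 P.one_mem 1 P.one_mem
  rw [mul_one] at this
  exact left_eq_add.mp this

theorem f_eq_zero {x : G} (hx : x ∈ P) : f x = 0 ↔ x = 1 :=
  ⟨fun h => S.f_inj hx P.one_mem (h.trans S.f_one.symm), fun h => h ▸ S.f_one⟩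

theorem f_inv {x : G} (hx : x ∈ P) : f x⁻¹ = -f x := by
  have := S.hfadd x hx x⁻¹ (P.inv_mem hx)
  rw [mul_inv_cancel, S.f_one] at this
  exact (neg_eq_of_add_eq_zero_right this.symm).symm

theorem f_pow {x : G} (hx : x ∈ P) (k : ℕ) : f (x ^ k) = (k : F) * f x := by
  induction k with
  | zero => simp [S.f_one]
  | succ k ih =>
    rw [pow_succ, S.hfadd _ (P.pow_mem hx k) x hx, ih]; push_cast; ring

theorem f_zpow {x : G} (hx : x ∈ P) (k : ℤ) : f (x ^ k) = (k : F) * f x := by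
  obtain ⟨n, rfl | rfl⟩ := Int.eq_nat_or_neg k
  · rw [zpow_natCast, S.f_pow hx]; simp
  · rw [zpow_neg, zpow_natCast, S.f_inv (P.pow_mem hx n), S.f_pow hx]; simp

theorem conj_mem {u x : G} (hu : u ∈ U) (hx : x ∈ P) : u * x * u⁻¹ ∈ P :=
  (Subgroup.mem_set_normalizer_iff.mp (S.hUP hu) x).mp hx

theorem f_conj {u x : G} (hu : u ∈ U) (hx : x ∈ P) : f (u * x * u⁻¹) = ψ u * f x :=
  (S.hψ u hu).2 x hx

theorem psi_ne_zero {u : G} (hu : u ∈ U) : ψ u ≠ 0 := (S.hψ u hu).1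

theorem psi_one : ψ 1 = 1 := by
  have h := S.hψmul 1 U.one_mem 1 U.one_mem
  rw [mul_one] at h
  have h0 := S.psi_ne_zero U.one_mem
  field_simp at h
  exact h.symm

theorem psi_inv {u : G} (hu : u ∈ U) : ψ u⁻¹ = (ψ u)⁻¹ := by
  have h := S.hψmul u hu u⁻¹ (U.inv_mem hu)
  rw [mul_inv_cancel, S.psi_one] at h
  exact eq_inv_of_mul_eq_one_right h.symm

theorem psi_pow {u : G} (hu : u ∈ U) (k : ℕ) : ψ (u ^ k) = ψ u ^ k := by
  induction k with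
  | zero => simp [S.psi_one]
  | succ k ih => rw [pow_succ, S.hψmul _ (U.pow_mem hu k) u hu, ih, pow_succ]

theorem psi_eq_one {u : G} (hu : u ∈ U) (h : ψ u = 1) : u = 1 :=
  S.hψinj hu U.one_mem (h.trans S.psi_one.symm)

theorem U_comm {a b : G} (ha : a ∈ U) (hb : b ∈ U) : a * b = b * a := by
  apply S.hψinj (U.mul_mem ha hb) (U.mul_mem hb ha)
  rw [S.hψmul a ha b hb, S.hψmul b hb a ha, mul_comm]

/-- `n = |U|`. -/
theorem psi_pow_card {u : G} (hu : u ∈ U) : ψ u ^ Nat.card U = 1 := by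
  rw [← S.psi_pow hu, orderOf_dvd_iff_pow_eq_one.mp (Subgroup.orderOf_dvd_natCard U hu), S.psi_one]

theorem p_pos : 0 < p := hp.out.pos

theorem p_ge_three : 3 ≤ p := by
  have h2 := hp.out.two_le
  have := S.hp2
  omega

theorem q_ge_two : 2 ≤ q := hq.out.two_le

theorem card_U_pos : 0 < Nat.card U := Nat.card_pos

theorem card_U_eq : Nat.card U = (p ^ q - 1) / (p - 1) := by
  have h1 : 0 < p - 1 := by have := S.p_ge_three; omega
  rw [← S.hUcard, Nat.mul_div_cancel _ h1]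

theorem coprime_card_U_pred : (Nat.card U).Coprime (p - 1) := by
  rw [S.card_U_eq]; exact S.hA

theorem coprime_card_U_p : (Nat.card U).Coprime p := by
  have h1 : 1 ≤ p ^ q := Nat.one_le_pow _ _ S.p_pos
  have h2 : (p ^ q - 1).Coprime p := by
    have hq0 : q ≠ 0 := hq.out.ne_zero
    have : p ∣ p ^ q := dvd_pow_self p hq0
    rw [Nat.coprime_comm, Nat.Prime.coprime_iff_not_dvd hp.out]
    intro h
    have h3 : p ∣ p ^ q - (p ^ q - 1) := Nat.dvd_sub this h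
    rw [Nat.sub_sub_self h1] at h3
    exact hp.out.one_lt.ne' (Nat.dvd_one.mp h3)
  rw [← S.hUcard] at h2
  exact Nat.Coprime.coprime_mul_right h2

/-- `|U| ≥ p^(q-1)`. -/
theorem card_U_ge : p ^ (q - 1) ≤ Nat.card U := by
  have h1 : 0 < p - 1 := by have := S.p_ge_three; omega
  apply Nat.le_of_mul_le_mul_right _ h1
  rw [S.hUcard]
  have hq1 : q = (q - 1) + 1 := by have := S.q_ge_two; omega
  have h2 : p ^ q = p ^ (q - 1) * p := by conv_lhs => rw [hq1, pow_succ]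
  have h3 : 1 ≤ p ^ (q - 1) := Nat.one_le_pow _ _ S.p_pos
  have h4 : 1 ≤ p := S.p_pos
  rw [h2]
  have : p ^ (q - 1) * (p - 1) = p ^ (q - 1) * p - p ^ (q - 1) := by
    rw [Nat.mul_sub, mul_one]
  rw [this]
  omega

theorem card_U_gt_one : 1 < Nat.card U := by
  have h1 := S.card_U_ge
  have h2 : p ^ 1 ≤ p ^ (q - 1) :=
    Nat.pow_le_pow_right S.p_pos (by have := S.q_ge_two; omega)
  have h3 := S.p_ge_three
  rw [pow_one] at h2
  omega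

theorem exists_ne_one_U : ∃ u ∈ U, u ≠ 1 := by
  have h1 := S.card_U_gt_one
  have : Nontrivial U := Finite.one_lt_card_iff_nontrivial.mp h1
  obtain ⟨u, hu⟩ := exists_ne (1 : U)
  exact ⟨u.1, u.2, fun h => hu (Subtype.ext h)⟩

theorem P_pow_p {x : G} (hx : x ∈ P) : x ^ p = 1 := by
  have := S.charP
  rw [← S.f_eq_zero (P.pow_mem hx p), S.f_pow hx, CharP.cast_eq_zero F p, zero_mul]

theorem PU_trivial {g : G} (hgP : g ∈ P) (hgU : g ∈ U) : g = 1 := by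
  have h1 : orderOf g ∣ p := orderOf_dvd_of_pow_eq_one (S.P_pow_p hgP)
  have h2 : orderOf g ∣ Nat.card U := Subgroup.orderOf_dvd_natCard U hgU
  have h3 : orderOf g ∣ Nat.gcd (Nat.card U) p := Nat.dvd_gcd h2 h1
  rw [Nat.Coprime.gcd_eq_one S.coprime_card_U_p, Nat.dvd_one, orderOf_eq_one_iff] at h3
  exact h3

theorem PQ_trivial {g : G} (hgP : g ∈ P) (hgQ : g ∈ Q) : g = 1 := by
  have h1 : orderOf g ∣ p := orderOf_dvd_of_pow_eq_one (S.P_pow_p hgP)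
  have h2 : orderOf g ∣ Nat.card Q := Subgroup.orderOf_dvd_natCard Q hgQ
  have h3 : orderOf g ∣ Nat.gcd (Nat.card Q) p := Nat.dvd_gcd h2 h1
  rw [Nat.Coprime.gcd_eq_one S.hQp, Nat.dvd_one, orderOf_eq_one_iff] at h3
  exact h3

theorem prod_unique {x x' g g' : G} (hx : x ∈ P) (hx' : x' ∈ P) (hg : g ∈ U) (hg' : g' ∈ U)
    (h : x * g = x' * g') : x = x' ∧ g = g' := by
  have h1 : x'⁻¹ * x = g' * g⁻¹ := by
    have : x'⁻¹ * (x * g) * g⁻¹ = x'⁻¹ * (x' * g') * g⁻¹ := by rw [h]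
    simpa [mul_assoc] using this
  have h2 : x'⁻¹ * x = 1 :=
    S.PU_trivial (P.mul_mem (P.inv_mem hx') hx) (h1 ▸ U.mul_mem hg' (U.inv_mem hg))
  have h3 : x = x' := by
    have := inv_mul_eq_one.mp h2
    exact this.symm
  subst h3
  exact ⟨rfl, mul_left_cancel h⟩

theorem semi {u x : G} (hu : u ∈ U) (hx : x ∈ P) (hx1 : x ≠ 1) (h : u * x * u⁻¹ = x) : u = 1 := by
  apply S.psi_eq_one hu
  have h1 := S.f_conj hu hx
  rw [h] at h1
  have h2 : f x ≠ 0 := fun h0 => hx1 ((S.f_eq_zero hx).mp h0)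
  have h3 : (ψ u - 1) * f x = 0 := by rw [sub_mul, one_mul, ← h1, sub_self]
  rcases mul_eq_zero.mp h3 with h4 | h4
  · exact sub_eq_zero.mp h4
  · exact absurd h4 h2

theorem exists_psi {g : F} (hg : g ^ ((p ^ q - 1) / (p - 1)) = 1) : ∃ u ∈ U, ψ u = g :=
  Cfsg.Agent.Lib.Helper25.AppCField.exists_psi_eq U ψ (fun _ hu => S.psi_ne_zero hu)
    S.hψmul S.hψinj S.hUcard hg

theorem psi_pow_n {u : G} (hu : u ∈ U) : ψ u ^ ((p ^ q - 1) / (p - 1)) = 1 := by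
  rw [← S.card_U_eq]; exact S.psi_pow_card hu

theorem gen {x : G} (hx : x ∈ P) (hx1 : x ≠ 1) (T : Subgroup G)
    (hT : ∀ u ∈ U, u * x * u⁻¹ ∈ T) : P ≤ T := by
  intro z hz
  have h2 : f x ≠ 0 := fun h0 => hx1 ((S.f_eq_zero hx).mp h0)
  by_cases hz1 : z = 1
  · rw [hz1]; exact T.one_mem
  have h3 : f z ≠ 0 := fun h0 => hz1 ((S.f_eq_zero hz).mp h0)
  obtain ⟨k, -, -, g, hg, hkg⟩ := Cfsg.Agent.Lib.Helper25.AppCField.exists_decomp_nat S.hF S.hA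
    (f z * (f x)⁻¹) (mul_ne_zero h3 (inv_ne_zero h2))
  obtain ⟨u, hu, rfl⟩ := S.exists_psi hg
  have h4 : z = (u * x * u⁻¹) ^ k := by
    apply S.f_inj hz (P.pow_mem (S.conj_mem hu hx) k)
    rw [S.f_pow (S.conj_mem hu hx), S.f_conj hu hx, ← mul_assoc, ← hkg]
    field_simp
  rw [h4]
  exact T.pow_mem (hT u hu) k

section withs

variable {s : G} (hs : s ∈ P) (hfs : f s = 1)
include hs hfs

theorem f_s_zpow (j : ℤ) : f (s ^ j) = (j : F) := by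
  rw [S.f_zpow hs, hfs, mul_one]

theorem f_s_pow (j : ℕ) : f (s ^ j) = (j : F) := by
  rw [S.f_pow hs, hfs, mul_one]

theorem s_ne_one : s ≠ 1 := by
  intro h
  rw [h, S.f_one] at hfs
  exact zero_ne_one hfs

theorem s_normQ : s ∈ Subgroup.normalizer (Q : Set G) :=
  S.hP0Q s hs (by rw [hfs, one_pow])

theorem tel_normU : tel s y ∈ Subgroup.normalizer (U : Set G) :=
  S.hP0U s hs (by rw [hfs, one_pow])

theorem dec {x : G} (hx : x ∈ P) (hx1 : x ≠ 1) :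
    ∃ k : ℕ, ¬ p ∣ k ∧ ∃ u ∈ U, x = u * s ^ k * u⁻¹ := by
  have h3 : f x ≠ 0 := fun h0 => hx1 ((S.f_eq_zero hx).mp h0)
  obtain ⟨k, hk0, hkp, g, hg, hkg⟩ :=
    Cfsg.Agent.Lib.Helper25.AppCField.exists_decomp_nat S.hF S.hA (f x) h3
  obtain ⟨u, hu, rfl⟩ := S.exists_psi hg
  refine ⟨k, Nat.not_dvd_of_pos_of_lt hk0 hkp, u, hu, ?_⟩
  apply S.f_inj hx (S.conj_mem hu (P.pow_mem hs k))
  rw [S.f_conj hu (P.pow_mem hs k), S.f_s_pow hs hfs, hkg, mul_comm]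

theorem frob_rel (m n : ℤ) (k : ℕ) {g u v : G} (hg : g ∈ U) (hu : u ∈ U) (hv : v ∈ U)
    (h : s ^ m * g * s ^ n = u * s ^ k * v) :
    s ^ m * g ^ p * s ^ n = u ^ p * s ^ k * v ^ p := by
  have := S.charP
  have hsn : s ^ n ∈ P := P.zpow_mem hs n
  have hsm : s ^ m ∈ P := P.zpow_mem hs m
  have hsk : s ^ k ∈ P := P.pow_mem hs k
  have e1 : s ^ m * g * s ^ n = (s ^ m * (g * s ^ n * g⁻¹)) * g := by group
  have e2 : u * s ^ k * v = (u * s ^ k * u⁻¹) * (u * v) := by group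
  obtain ⟨h1, h2⟩ := S.prod_unique (P.mul_mem hsm (S.conj_mem hg hsn)) (S.conj_mem hu hsk) hg
    (U.mul_mem hu hv) (by rw [← e1, ← e2, h])
  have hf1 := congrArg f h1
  rw [S.hfadd _ hsm _ (S.conj_mem hg hsn), S.f_conj hg hsn, S.f_conj hu hsk,
    S.f_s_zpow hs hfs, S.f_s_zpow hs hfs, S.f_s_pow hs hfs] at hf1
  have hf2 : (m : F) + ψ (g ^ p) * (n : F) = ψ (u ^ p) * (k : F) := by
    rw [S.psi_pow hg, S.psi_pow hu]
    have h5 : ((m : F) + ψ g * (n : F)) ^ p = (ψ u * (k : F)) ^ p := by rw [hf1]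
    rw [add_pow_char, mul_pow, mul_pow,
      Cfsg.Agent.Lib.Helper25.AppCField.intCast_pow_p (q := q) S.hF,
      Cfsg.Agent.Lib.Helper25.AppCField.intCast_pow_p (q := q) S.hF,
      Cfsg.Agent.Lib.Helper25.AppCField.natCast_pow_p (q := q) S.hF] at h5
    exact h5
  have hgp := U.pow_mem hg p
  have hup := U.pow_mem hu p
  have h3 : s ^ m * (g ^ p * s ^ n * (g ^ p)⁻¹) = u ^ p * s ^ k * (u ^ p)⁻¹ := by
    apply S.f_inj (P.mul_mem hsm (S.conj_mem hgp hsn)) (S.conj_mem hup hsk)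
    rw [S.hfadd _ hsm _ (S.conj_mem hgp hsn), S.f_conj hgp hsn, S.f_conj hup hsk,
      S.f_s_zpow hs hfs, S.f_s_zpow hs hfs, S.f_s_pow hs hfs]
    exact hf2
  have h4 : g ^ p = u ^ p * v ^ p := by
    have hc : Commute u v := S.U_comm hu hv
    rw [h2]; exact hc.mul_pow p
  calc s ^ m * g ^ p * s ^ n = (s ^ m * (g ^ p * s ^ n * (g ^ p)⁻¹)) * g ^ p := by group
    _ = u ^ p * s ^ k * (u ^ p)⁻¹ * (u ^ p * v ^ p) := by rw [h3, h4]
    _ = _ := by group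

theorem fix_rel {g : G} (hg : g ∈ U) (m n : ℤ) (h : g * s ^ m * g⁻¹ = s ^ n) :
    (p : ℤ) ∣ m - n := by
  have hsm : s ^ m ∈ P := P.zpow_mem hs m
  have hf1 := congrArg f h
  rw [S.f_conj hg hsm, S.f_s_zpow hs hfs, S.f_s_zpow hs hfs] at hf1
  rw [← Cfsg.Agent.Lib.Helper25.AppCField.intCast_eq_zero_iff (F := F) (q := q) S.hF]
  push_cast
  by_cases hm : (m : F) = 0
  · rw [hm, mul_zero] at hf1
    rw [hm, ← hf1, sub_zero]
  · have h1 : ψ g = (n : F) / (m : F) := by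
      rw [eq_div_iff hm, hf1]
    have h2 : ψ g ^ p = ψ g := by
      rw [h1, div_pow, Cfsg.Agent.Lib.Helper25.AppCField.intCast_pow_p (q := q) S.hF,
        Cfsg.Agent.Lib.Helper25.AppCField.intCast_pow_p (q := q) S.hF]
    have h3 : ψ g = 1 := Cfsg.Agent.Lib.Helper25.AppCField.eq_one_of_prime_of_root (p := p) (q := q)
      S.hA h2 (S.psi_ne_zero hg) (S.psi_pow_n hg)
    rw [h3, one_mul] at hf1
    rw [hf1, sub_self]

theorem data : Data P U Q p s y where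
  hsP := hs
  hyQ := S.hy
  hp2 := S.hp2
  hUP := fun _ hu _ hx => S.conj_mem hu hx
  hPU := fun _ h1 h2 => S.PU_trivial h1 h2
  hPQ := fun _ h1 h2 => S.PQ_trivial h1 h2
  hPp := fun _ hx => S.P_pow_p hx
  hs1 := S.s_ne_one hs hfs
  hUp := S.coprime_card_U_p
  hQp := S.hQp
  hUp1 := S.coprime_card_U_pred
  hQc := S.hQ
  hUc := fun _ ha _ hb => S.U_comm ha hb
  hsQ := S.s_normQ hs hfs
  htU := S.tel_normU hs hfs
  hU1 := S.exists_ne_one_U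
  hsemi := fun _ hu _ hx hx1 h => S.semi hu hx hx1 h
  hgen := fun _ hx hx1 T hT => S.gen hx hx1 T hT
  hdec := fun _ hx hx1 => S.dec hs hfs hx hx1
  hfrob := fun m n k _ _ _ hg hu hv h => S.frob_rel hs hfs m n k hg hu hv h
  hfix := fun _ hg m n h => S.fix_rel hs hfs hg m n h

/-- E-relation: if `(2 - ψ a)^n = 1` then `s² a s⁻¹ = u s v` for some `u v ∈ U`. -/
theorem erel {a : G} (ha : a ∈ U) (h : (2 - ψ a) ^ ((p ^ q - 1) / (p - 1)) = 1) :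
    ∃ u ∈ U, ∃ v ∈ U, s ^ (2 : ℤ) * a * s⁻¹ = u * s * v := by
  obtain ⟨u, hu, hψu⟩ := S.exists_psi h
  refine ⟨u, hu, u⁻¹ * a, U.mul_mem (U.inv_mem hu) ha, ?_⟩
  have hs2 : s ^ (2 : ℤ) ∈ P := P.zpow_mem hs 2
  have hsi : s⁻¹ ∈ P := P.inv_mem hs
  have h1 : s ^ (2 : ℤ) * (a * s⁻¹ * a⁻¹) = u * s * u⁻¹ := by
    apply S.f_inj (P.mul_mem hs2 (S.conj_mem ha hsi)) (S.conj_mem hu hs)
    rw [S.hfadd _ hs2 _ (S.conj_mem ha hsi), S.f_conj ha hsi, S.f_conj hu hs,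
      S.f_s_zpow hs hfs, S.f_inv hs, hfs, hψu]
    push_cast; ring
  calc s ^ (2 : ℤ) * a * s⁻¹ = (s ^ (2 : ℤ) * (a * s⁻¹ * a⁻¹)) * a := by group
    _ = u * s * u⁻¹ * a := by rw [h1]
    _ = u * s * (u⁻¹ * a) := by group

theorem step {a : G} (ha : a ∈ U) (h : (2 - ψ a) ^ ((p ^ q - 1) / (p - 1)) = 1) :
    (2 - ψ (tel s y ^ (3 : ℤ) * a⁻¹ * (tel s y ^ (3 : ℤ))⁻¹)) ^ ((p ^ q - 1) / (p - 1)) = 1 := by
  have D := S.data hs hfs
  obtain ⟨u, hu, v, hv, hE⟩ := S.erel hs hfs ha h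
  obtain ⟨u1, hu1, v1, hv1, hC⟩ := D.core ha hu hv hE
  have ha3 : tel s y ^ (3 : ℤ) * a * (tel s y ^ (3 : ℤ))⁻¹ ∈ U := D.conjU 3 ha
  have h4 : tel s y ^ (3 : ℤ) * a⁻¹ * (tel s y ^ (3 : ℤ))⁻¹
      = (tel s y ^ (3 : ℤ) * a * (tel s y ^ (3 : ℤ))⁻¹)⁻¹ := by group
  rw [zpow_neg] at hC
  rw [h4]
  generalize tel s y ^ (3 : ℤ) * a * (tel s y ^ (3 : ℤ))⁻¹ = a3 at ha3 hC
  have hs2 : s ^ (2 : ℤ) ∈ P := P.zpow_mem hs 2
  have hsi : s⁻¹ ∈ P := P.inv_mem hs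
  have e1 : s⁻¹ * a3 * s ^ (2 : ℤ) = (s⁻¹ * (a3 * s ^ (2 : ℤ) * a3⁻¹)) * a3 := by group
  have e2 : u1 * s * v1 = (u1 * s * u1⁻¹) * (u1 * v1) := by group
  obtain ⟨h1, -⟩ := S.prod_unique (P.mul_mem hsi (S.conj_mem ha3 hs2)) (S.conj_mem hu1 hs) ha3
    (U.mul_mem hu1 hv1) (by rw [← e1, ← e2]; exact hC)
  have hf1 := congrArg f h1
  rw [S.hfadd _ hsi _ (S.conj_mem ha3 hs2), S.f_conj ha3 hs2, S.f_conj hu1 hs,
    S.f_s_zpow hs hfs, S.f_inv hs, hfs] at hf1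
  have h3 : (2 * ψ a3 - 1) ^ ((p ^ q - 1) / (p - 1)) = 1 := by
    have h5 : 2 * ψ a3 - 1 = ψ u1 := by
      rw [← mul_one (ψ u1), ← hf1]; push_cast; ring
    rw [h5]; exact S.psi_pow_n hu1
  rw [S.psi_inv ha3]
  have h5 : ψ a3 ≠ 0 := S.psi_ne_zero ha3
  have h6 : 2 - (ψ a3)⁻¹ = (2 * ψ a3 - 1) * (ψ a3)⁻¹ := by field_simp
  rw [h6, mul_pow, h3, inv_pow, S.psi_pow_n ha3, inv_one, mul_one]

theorem inv_closed_U {a : G} (ha : a ∈ U) (h : (2 - ψ a) ^ ((p ^ q - 1) / (p - 1)) = 1) :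
    (2 - ψ a⁻¹) ^ ((p ^ q - 1) / (p - 1)) = 1 := by
  have D := S.data hs hfs
  exact Cfsg.Agent.Lib.Helper48.appC_theta_iter U (tel s y ^ (3 : ℤ)) p
    (hp.out.odd_of_ne_two S.hp2) (D.tel_zpow_p_mul 3) (fun a ha => D.conjU 3 ha)
    (fun a => (2 - ψ a) ^ ((p ^ q - 1) / (p - 1)) = 1)
    (fun a ha h => S.step hs hfs ha h) a ha h

end withs

/-- The set `E` is closed under inversion. -/
theorem inv_closed (α : F) (h1 : α ^ ((p ^ q - 1) / (p - 1)) = 1)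
    (h2 : (2 - α) ^ ((p ^ q - 1) / (p - 1)) = 1) :
    (2 - α⁻¹) ^ ((p ^ q - 1) / (p - 1)) = 1 := by
  obtain ⟨s, hs, hfs⟩ := S.hf.surjOn (Set.mem_univ (1 : F))
  obtain ⟨a, ha, rfl⟩ := S.exists_psi h1
  rw [← S.psi_inv ha]
  exact S.inv_closed_U hs hfs ha h2

end Setup

end Cfsg.Agent.Lib.Helper52.AppC
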