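import Mathlib

/-!
# Bender–Glauberman Appendix C, Lemma C.3 (group-theoretic core), abstract form

`Data P U Q p s y` packages what the field structure of `H = P ⋊ U` provides.
Main result: `Data.core`.
-/

set_option autoImplicit false
set_option linter.style.haveILetI false
set_option linter.unusedSectionVars false

namespace Cfsg.Agent.Lib.Helper52.AppC

open Subgroup

variable {G : Type*} [Group G]

/-- The element `t = y s y⁻¹`. -/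
def tel (s y : G) : G := y * s * y⁻¹

theorem tel_zpow (s y : G) (j : ℤ) : tel s y ^ j = y * s ^ j * y⁻¹ := by
  unfold tel; exact conj_zpow

/-- Abstract data for Appendix C. -/
structure Data (P U Q : Subgroup G) (p : ℕ) (s y : G) : Prop where
  hsP : s ∈ P
  hyQ : y ∈ Q
  hp2 : p ≠ 2
  hUP : ∀ u ∈ U, ∀ x ∈ P, u * x * u⁻¹ ∈ P
  hPU : ∀ g, g ∈ P → g ∈ U → g = 1
  hPQ : ∀ g, g ∈ P → g ∈ Q → g = 1
  hPp : ∀ x ∈ P, x ^ p = 1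
  hs1 : s ≠ 1
  hUp : (Nat.card U).Coprime p
  hQp : (Nat.card Q).Coprime p
  hUp1 : (Nat.card U).Coprime (p - 1)
  hQc : ∀ a ∈ Q, ∀ b ∈ Q, a * b = b * a
  hUc : ∀ a ∈ U, ∀ b ∈ U, a * b = b * a
  hsQ : s ∈ Subgroup.normalizer (Q : Set G)
  htU : tel s y ∈ Subgroup.normalizer (U : Set G)
  hU1 : ∃ u ∈ U, u ≠ 1
  hsemi : ∀ u ∈ U, ∀ x ∈ P, x ≠ 1 → u * x * u⁻¹ = x → u = 1
  hgen : ∀ x ∈ P, x ≠ 1 → ∀ S : Subgroup G, (∀ u ∈ U, u * x * u⁻¹ ∈ S) → P ≤ S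
  hdec : ∀ x ∈ P, x ≠ 1 → ∃ k : ℕ, ¬ p ∣ k ∧ ∃ u ∈ U, x = u * s ^ k * u⁻¹
  hfrob : ∀ (m n : ℤ) (k : ℕ) (g u v : G), g ∈ U → u ∈ U → v ∈ U →
    s ^ m * g * s ^ n = u * s ^ k * v → s ^ m * g ^ p * s ^ n = u ^ p * s ^ k * v ^ p
  hfix : ∀ g ∈ U, ∀ m n : ℤ, g * s ^ m * g⁻¹ = s ^ n → (p : ℤ) ∣ m - n

namespace Data

variable {P U Q : Subgroup G} {p : ℕ} [hp : Fact p.Prime] {s y : G}

section basic
variable (D : Data P U Q p s y)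
include D

theorem s_pow_p : s ^ p = 1 := D.hPp s D.hsP

theorem s_zpow_mem (j : ℤ) : s ^ j ∈ P := P.zpow_mem D.hsP j

theorem orderOf_s : orderOf s = p := orderOf_eq_prime D.s_pow_p D.hs1

theorem s_zpow_eq_one_iff (j : ℤ) : s ^ j = 1 ↔ (p : ℤ) ∣ j := by
  rw [← orderOf_dvd_iff_zpow_eq_one, D.orderOf_s]

theorem tel_pow_p : tel s y ^ p = 1 := by
  have := tel_zpow s y (p : ℤ)
  rw [zpow_natCast, zpow_natCast, D.s_pow_p] at this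
  rw [this]; group

theorem tel_zpow_p_mul (j : ℤ) : (tel s y ^ j) ^ p = 1 := by
  rw [← zpow_natCast, ← zpow_mul, mul_comm, zpow_mul, zpow_natCast, D.tel_pow_p, one_zpow]

theorem tel_zpow_normU (j : ℤ) : tel s y ^ j ∈ Subgroup.normalizer (U : Set G) :=
  (Subgroup.normalizer (U : Set G)).zpow_mem D.htU j

theorem conjU (j : ℤ) {g : G} (hg : g ∈ U) : tel s y ^ j * g * (tel s y ^ j)⁻¹ ∈ U :=
  (Subgroup.mem_set_normalizer_iff.mp (D.tel_zpow_normU j) g).mp hg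

theorem conjU' (j : ℤ) {g : G} (hg : g ∈ U) : (tel s y ^ j)⁻¹ * g * tel s y ^ j ∈ U := by
  have := D.conjU (-j) hg
  rwa [zpow_neg, inv_inv] at this

theorem s_zpow_normQ (j : ℤ) : s ^ j ∈ Subgroup.normalizer (Q : Set G) :=
  (Subgroup.normalizer (Q : Set G)).zpow_mem D.hsQ j

theorem conjQ (j : ℤ) {m : G} (hm : m ∈ Q) : s ^ j * m * (s ^ j)⁻¹ ∈ Q :=
  (Subgroup.mem_set_normalizer_iff.mp (D.s_zpow_normQ j) m).mp hm

/-- `q j = t^j s^{-j} ∈ Q`. -/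
theorem q_mem (j : ℤ) : tel s y ^ j * s ^ (-j) ∈ Q := by
  rw [tel_zpow, zpow_neg]
  have h1 : s ^ j * y⁻¹ * (s ^ j)⁻¹ ∈ Q := D.conjQ j (Q.inv_mem D.hyQ)
  have : y * s ^ j * y⁻¹ * (s ^ j)⁻¹ = y * (s ^ j * y⁻¹ * (s ^ j)⁻¹) := by group
  rw [this]
  exact Q.mul_mem D.hyQ h1

/-- The "hexagon" relations coming from commutativity of `Q`. -/
theorem krel (i j : ℤ) :
    tel s y ^ i * s ^ (-(i + j)) * tel s y ^ j = s ^ (-j) * tel s y ^ (i + j) * s ^ (-i) := by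
  have hc := D.hQc _ (D.q_mem i) _ (Q.inv_mem (D.q_mem (-j)))
  have e1 : tel s y ^ i * s ^ (-(i + j)) * tel s y ^ j
      = tel s y ^ i * s ^ (-i) * (tel s y ^ (-j) * s ^ (- -j))⁻¹ := by
    rw [neg_add, zpow_add, neg_neg, mul_inv_rev, zpow_neg (tel s y) j, inv_inv]
    group
  have e2 : s ^ (-j) * tel s y ^ (i + j) * s ^ (-i)
      = (tel s y ^ (-j) * s ^ (- -j))⁻¹ * (tel s y ^ i * s ^ (-i)) := by
    rw [add_comm i j, zpow_add, neg_neg, mul_inv_rev, zpow_neg (tel s y) j, inv_inv, zpow_neg s j]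
    group
  rw [e1, e2, hc]


/-- The subgroup `H = P U`. -/
def HH : Subgroup G where
  carrier := {h | ∃ x ∈ P, ∃ g ∈ U, h = x * g}
  one_mem' := ⟨1, P.one_mem, 1, U.one_mem, by simp⟩
  mul_mem' := by
    rintro _ _ ⟨x, hx, g, hg, rfl⟩ ⟨x', hx', g', hg', rfl⟩
    refine ⟨x * (g * x' * g⁻¹), P.mul_mem hx (D.hUP g hg x' hx'), g * g', U.mul_mem hg hg', ?_⟩
    group
  inv_mem' := by
    rintro _ ⟨x, hx, g, hg, rfl⟩
    refine ⟨g⁻¹ * x⁻¹ * g⁻¹⁻¹, D.hUP g⁻¹ (U.inv_mem hg) x⁻¹ (P.inv_mem hx), g⁻¹, U.inv_mem hg, ?_⟩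
    group

theorem mem_HH {h : G} : h ∈ D.HH ↔ ∃ x ∈ P, ∃ g ∈ U, h = x * g := Iff.rfl

theorem P_le_HH {x : G} (hx : x ∈ P) : x ∈ D.HH := ⟨x, hx, 1, U.one_mem, by simp⟩

theorem U_le_HH {g : G} (hg : g ∈ U) : g ∈ D.HH := ⟨1, P.one_mem, g, hg, by simp⟩

theorem decomp_unique {x x' g g' : G} (hx : x ∈ P) (hx' : x' ∈ P) (hg : g ∈ U) (hg' : g' ∈ U)
    (h : x * g = x' * g') : x = x' ∧ g = g' := by
  have h1 : x'⁻¹ * x = g' * g⁻¹ := by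
    have : x'⁻¹ * (x * g) * g⁻¹ = x'⁻¹ * (x' * g') * g⁻¹ := by rw [h]
    simpa [mul_assoc] using this
  have h2 : x'⁻¹ * x = 1 :=
    D.hPU _ (P.mul_mem (P.inv_mem hx') hx) (h1 ▸ U.mul_mem hg' (U.inv_mem hg))
  have h3 : x = x' := by
    have := inv_mul_eq_one.mp h2
    exact this.symm
  subst h3
  exact ⟨rfl, mul_left_cancel h⟩

theorem pow_decomp {x g : G} (hx : x ∈ P) (hg : g ∈ U) (k : ℕ) :
    ∃ x' ∈ P, (x * g) ^ k = x' * g ^ k := by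
  induction k with
  | zero => exact ⟨1, P.one_mem, by simp⟩
  | succ k ih =>
    obtain ⟨x', hx', h⟩ := ih
    refine ⟨x' * (g ^ k * x * (g ^ k)⁻¹), P.mul_mem hx' (D.hUP _ (U.pow_mem hg k) x hx), ?_⟩
    rw [pow_succ, h, pow_succ]
    group

/-- A `p`-element of `H` lies in `P`. -/
theorem mem_P_of_pow_p {h : G} (hh : h ∈ D.HH) (hp1 : h ^ p = 1) : h ∈ P := by
  obtain ⟨x, hx, g, hg, rfl⟩ := hh
  obtain ⟨x', hx', h'⟩ := D.pow_decomp hx hg p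
  rw [hp1] at h'
  have hgp : g ^ p = x'⁻¹ := by
    have : x'⁻¹ * 1 = x'⁻¹ * (x' * g ^ p) := by rw [h']
    simpa using this.symm
  have hgp1 : g ^ p = 1 := D.hPU _ (hgp ▸ P.inv_mem hx') (U.pow_mem hg p)
  have hg1 : g = 1 := by
    have h1 : orderOf g ∣ p := orderOf_dvd_of_pow_eq_one hgp1
    have h2 : orderOf g ∣ Nat.card U := Subgroup.orderOf_dvd_natCard U hg
    have h3 : orderOf g ∣ Nat.gcd (Nat.card U) p := Nat.dvd_gcd h2 h1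
    rw [D.hUp] at h3
    exact orderOf_eq_one_iff.mp (Nat.dvd_one.mp h3)
  subst hg1
  simpa using hx

theorem eq_one_of_pow_p_U {g : G} (hg : g ∈ U) (hgp1 : g ^ p = 1) : g = 1 := by
  have h1 : orderOf g ∣ p := orderOf_dvd_of_pow_eq_one hgp1
  have h2 : orderOf g ∣ Nat.card U := Subgroup.orderOf_dvd_natCard U hg
  have h3 : orderOf g ∣ Nat.gcd (Nat.card U) p := Nat.dvd_gcd h2 h1
  rw [D.hUp] at h3
  exact orderOf_eq_one_iff.mp (Nat.dvd_one.mp h3)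

theorem eq_one_of_pow_p_Q {g : G} (hg : g ∈ Q) (hgp1 : g ^ p = 1) : g = 1 := by
  have h1 : orderOf g ∣ p := orderOf_dvd_of_pow_eq_one hgp1
  have h2 : orderOf g ∣ Nat.card Q := Subgroup.orderOf_dvd_natCard Q hg
  have h3 : orderOf g ∣ Nat.gcd (Nat.card Q) p := Nat.dvd_gcd h2 h1
  rw [D.hQp] at h3
  exact orderOf_eq_one_iff.mp (Nat.dvd_one.mp h3)

/-- If `c ∈ U` satisfies `c^p = c` then `c = 1` (uses `gcd(|U|, p-1) = 1`). -/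
theorem eq_one_of_pow_p_eq {c : G} (hc : c ∈ U) (hcp : c ^ p = c) : c = 1 := by
  have hp1 : 1 ≤ p := hp.out.one_le
  have h0 : c ^ (p - 1) = 1 := by
    have : c ^ (p - 1) * c = 1 * c := by
      rw [← pow_succ, Nat.sub_add_cancel hp1, hcp, one_mul]
    exact mul_right_cancel this
  have h1 : orderOf c ∣ p - 1 := orderOf_dvd_of_pow_eq_one h0
  have h2 : orderOf c ∣ Nat.card U := Subgroup.orderOf_dvd_natCard U hc
  have h3 : orderOf c ∣ Nat.gcd (Nat.card U) (p - 1) := Nat.dvd_gcd h2 h1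
  rw [D.hUp1] at h3
  exact orderOf_eq_one_iff.mp (Nat.dvd_one.mp h3)

/-- `U` is semiregular: a nontrivial element of `P` conjugating `c ∈ U` into `U` forces `c = 1`. -/
theorem semi' {c x : G} (hc : c ∈ U) (hx : x ∈ P) (hx1 : x ≠ 1) (h : x * c * x⁻¹ ∈ U) : c = 1 := by
  have hz1 : x * c * x⁻¹ * c⁻¹ ∈ U := U.mul_mem h (U.inv_mem hc)
  have hz2 : x * c * x⁻¹ * c⁻¹ ∈ P := by
    have : x * c * x⁻¹ * c⁻¹ = x * (c * x⁻¹ * c⁻¹) := by group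
    rw [this]
    exact P.mul_mem hx (D.hUP c hc _ (P.inv_mem hx))
  have hz : x * c * x⁻¹ * c⁻¹ = 1 := D.hPU _ hz2 hz1
  have hcx : c * x * c⁻¹ = x := by
    have h1 : x * c * x⁻¹ = c := by
      have := mul_inv_eq_one.mp hz
      exact this
    have h2 : x * c = c * x := by
      have : x * c * x⁻¹ * x = c * x := by rw [h1]
      simpa [mul_assoc] using this
    rw [← h2]; group
  exact D.hsemi c hc x hx hx1 hcx

/-- No nontrivial element of `P` normalizes `U`. -/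
theorem not_normalizes {x : G} (hx : x ∈ P) (hx1 : x ≠ 1)
    (h : ∀ g ∈ U, x * g * x⁻¹ ∈ U) : False := by
  obtain ⟨u, hu, hu1⟩ := D.hU1
  exact hu1 (D.semi' hu hx hx1 (h u hu))

/-- `t^j` does not normalize `P` when `p ∤ j`. -/
theorem not_norm (j : ℤ) (hj : ¬ (p : ℤ) ∣ j)
    (hn : ∀ x ∈ P, tel s y ^ j * x * (tel s y ^ j)⁻¹ ∈ P) : False := by
  set c := tel s y ^ j * s ^ (-j) with hc
  have hcQ : c ∈ Q := D.q_mem j
  -- c normalizes P at s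
  have h1 : c * s * c⁻¹ ∈ P := by
    have : c * s * c⁻¹ = tel s y ^ j * s * (tel s y ^ j)⁻¹ := by
      rw [hc, zpow_neg]; group
    rw [this]; exact hn s D.hsP
  have h2 : c * s * c⁻¹ * s⁻¹ ∈ P := P.mul_mem h1 (P.inv_mem D.hsP)
  have h3 : c * s * c⁻¹ * s⁻¹ ∈ Q := by
    have : c * s * c⁻¹ * s⁻¹ = c * (s * c⁻¹ * s⁻¹) := by group
    rw [this]
    have := D.conjQ 1 (Q.inv_mem hcQ)
    rw [zpow_one] at this
    exact Q.mul_mem hcQ this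
  have h4 : c * s * c⁻¹ * s⁻¹ = 1 := D.hPQ _ h2 h3
  have hcomm : Commute c s := by
    have h5 : c * s * c⁻¹ = s := by
      have := mul_inv_eq_one.mp h4
      exact this
    have : c * s * c⁻¹ * c = s * c := by rw [h5]
    have h6 : c * s = s * c := by simpa [mul_assoc] using this
    exact h6
  have htj : tel s y ^ j = c * s ^ j := by rw [hc, zpow_neg]; group
  have hcp : c ^ p = 1 := by
    have h6 : (c * s ^ j) ^ p = c ^ p * (s ^ j) ^ p := (hcomm.zpow_right j).mul_pow p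
    have h7 : (s ^ j) ^ p = 1 := by
      rw [← zpow_natCast, ← zpow_mul, mul_comm, zpow_mul, zpow_natCast, D.s_pow_p, one_zpow]
    rw [← htj, D.tel_zpow_p_mul, h7, mul_one] at h6
    exact h6.symm
  have hc1 : c = 1 := D.eq_one_of_pow_p_Q hcQ hcp
  rw [hc1, one_mul] at htj
  have hs1 : s ^ j ≠ 1 := fun h => hj ((D.s_zpow_eq_one_iff j).mp h)
  refine D.not_normalizes (D.s_zpow_mem j) hs1 ?_
  intro g hg
  rw [← htj]
  exact D.conjU j hg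

/-- Step 3: `H ∩ H^{t^j} = U` for `p ∤ j`. -/
theorem step3 (j : ℤ) (hj : ¬ (p : ℤ) ∣ j) {h : G} (hh : h ∈ D.HH)
    (hh' : tel s y ^ j * h * (tel s y ^ j)⁻¹ ∈ D.HH) : h ∈ U := by
  obtain ⟨x, hx, g, hg, rfl⟩ := hh
  by_cases hx1 : x = 1
  · subst hx1; simpa using hg
  exfalso
  set T := tel s y ^ j with hT
  -- t^j x t^-j ∈ H
  have hxH : T * x * T⁻¹ ∈ D.HH := by
    have : T * x * T⁻¹ = (T * (x * g) * T⁻¹) * (T * g * T⁻¹)⁻¹ := by group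
    rw [this]
    exact D.HH.mul_mem hh' (D.HH.inv_mem (D.U_le_HH (D.conjU j hg)))
  -- the subgroup of elements conjugated into H by t^j
  let S : Subgroup G := D.HH.comap (MulAut.conj T).toMonoidHom
  have hS : ∀ z, z ∈ S ↔ T * z * T⁻¹ ∈ D.HH := fun z => by
    simp [S, Subgroup.mem_comap, MulAut.conj_apply]
  have hPS : P ≤ S := by
    apply D.hgen x hx hx1
    intro u hu
    rw [hS]
    have : T * (u * x * u⁻¹) * T⁻¹ = (T * u * T⁻¹) * (T * x * T⁻¹) * (T * u * T⁻¹)⁻¹ := by group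
    rw [this]
    have hu' := D.U_le_HH (D.conjU j hu)
    exact D.HH.mul_mem (D.HH.mul_mem hu' hxH) (D.HH.inv_mem hu')
  apply D.not_norm j hj
  intro z hz
  have h1 : T * z * T⁻¹ ∈ D.HH := (hS z).mp (hPS hz)
  apply D.mem_P_of_pow_p h1
  rw [conj_pow, D.hPp z hz]; group

theorem R1 : tel s y * s * tel s y ^ (-2 : ℤ) = s ^ (2 : ℤ) * (tel s y)⁻¹ * s⁻¹ := by
  have := D.krel 1 (-2)
  norm_num at this
  simpa using this

theorem R2 : tel s y ^ (-2 : ℤ) * s⁻¹ * tel s y ^ (3 : ℤ) = s ^ (-3 : ℤ) * tel s y * s ^ (2 : ℤ) := by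
  have := D.krel (-2) 3
  norm_num at this
  simpa using this

theorem R3 : tel s y ^ (-3 : ℤ) * s ^ (2 : ℤ) * tel s y = s⁻¹ * tel s y ^ (-2 : ℤ) * s ^ (3 : ℤ) := by
  have := D.krel (-3) 1
  norm_num at this
  simpa using this

/-- The triangle identity. -/
theorem triangle (a u v : G) (h : s ^ (2 : ℤ) * a * s⁻¹ = u * s * v) :
    tel s y ^ (-2 : ℤ) * (s⁻¹ * (tel s y ^ (3 : ℤ) * a * tel s y ^ (-3 : ℤ)) * s ^ (2 : ℤ)) * tel s y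
      = (s ^ (-3 : ℤ) * (tel s y * u * (tel s y)⁻¹) * s ^ (2 : ℤ)) * (tel s y)⁻¹
          * (s⁻¹ * (tel s y ^ (2 : ℤ) * v * tel s y ^ (-2 : ℤ)) * s ^ (3 : ℤ)) := by
  set T := tel s y with hT
  symm
  calc (s ^ (-3 : ℤ) * (T * u * T⁻¹) * s ^ (2 : ℤ)) * T⁻¹
          * (s⁻¹ * (T ^ (2 : ℤ) * v * T ^ (-2 : ℤ)) * s ^ (3 : ℤ))
      = s ^ (-3 : ℤ) * T * u * T⁻¹ * (s ^ (2 : ℤ) * T⁻¹ * s⁻¹) * T ^ (2 : ℤ) * v * T ^ (-2 : ℤ)
          * s ^ (3 : ℤ) := by group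
    _ = s ^ (-3 : ℤ) * T * u * T⁻¹ * (T * s * T ^ (-2 : ℤ)) * T ^ (2 : ℤ) * v * T ^ (-2 : ℤ)
          * s ^ (3 : ℤ) := by rw [D.R1]
    _ = s ^ (-3 : ℤ) * T * (u * s * v) * T ^ (-2 : ℤ) * s ^ (3 : ℤ) := by group
    _ = s ^ (-3 : ℤ) * T * (s ^ (2 : ℤ) * a * s⁻¹) * T ^ (-2 : ℤ) * s ^ (3 : ℤ) := by rw [h]
    _ = (s ^ (-3 : ℤ) * T * s ^ (2 : ℤ)) * a * (s⁻¹ * T ^ (-2 : ℤ) * s ^ (3 : ℤ)) := by group
    _ = (T ^ (-2 : ℤ) * s⁻¹ * T ^ (3 : ℤ)) * a * (T ^ (-3 : ℤ) * s ^ (2 : ℤ) * T) := by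
        rw [D.R2, D.R3]
    _ = T ^ (-2 : ℤ) * (s⁻¹ * (T ^ (3 : ℤ) * a * T ^ (-3 : ℤ)) * s ^ (2 : ℤ)) * T := by group

/-- Step 1 for elements `s^m g s^n`. -/
theorem decomp (m n : ℤ) {g : G} (hg : g ∈ U) (hmn : ¬ (p : ℤ) ∣ m + n) :
    ∃ k : ℕ, ¬ p ∣ k ∧ ∃ u ∈ U, ∃ v ∈ U, s ^ m * g * s ^ n = u * s ^ k * v := by
  have hxP : s ^ m * (g * s ^ n * g⁻¹) ∈ P :=
    P.mul_mem (D.s_zpow_mem m) (D.hUP g hg _ (D.s_zpow_mem n))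
  have hx1 : s ^ m * (g * s ^ n * g⁻¹) ≠ 1 := by
    intro h
    have h1 : g * s ^ n * g⁻¹ = s ^ (-m) := by
      rw [zpow_neg]
      exact eq_inv_of_mul_eq_one_right h
    have := D.hfix g hg n (-m) h1
    apply hmn
    have e : m + n = n - -m := by ring
    rw [e]; exact this
  obtain ⟨k, hk, u, hu, hxu⟩ := D.hdec _ hxP hx1
  refine ⟨k, hk, u, hu, u⁻¹ * g, U.mul_mem (U.inv_mem hu) hg, ?_⟩
  have : s ^ m * g * s ^ n = s ^ m * (g * s ^ n * g⁻¹) * g := by group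
  rw [this, hxu]; group

omit D hp in
theorem rearr (T u1 s1 v1 u2 s2 v2 u3 s3 v3 : G)
    (h : T ^ (-2 : ℤ) * (u1 * s1 * v1) * T = (u2 * s2 * v2) * T⁻¹ * (u3 * s3 * v3)) :
    T ^ (-2 : ℤ) * s1 * T
      = ((T ^ (-2 : ℤ) * u1 * T ^ (2 : ℤ))⁻¹ * u2) * s2 * (v2 * (T⁻¹ * u3 * T)) * T⁻¹ * s3
          * (v3 * (T⁻¹ * v1 * T)⁻¹) := by
  have e : ((T ^ (-2 : ℤ) * u1 * T ^ (2 : ℤ))⁻¹ * u2) * s2 * (v2 * (T⁻¹ * u3 * T)) * T⁻¹ * s3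
          * (v3 * (T⁻¹ * v1 * T)⁻¹)
      = T ^ (-2 : ℤ) * u1⁻¹ * T ^ (2 : ℤ) * ((u2 * s2 * v2) * T⁻¹ * (u3 * s3 * v3)) * T⁻¹ * v1⁻¹ * T := by
    group
  rw [e, ← h]; group

omit D hp in
theorem cancel_mid {X X' Ti Y Y' : G} (h : X * Ti * Y = X' * Ti * Y') :
    X'⁻¹ * X = Ti * (Y' * Y⁻¹) * Ti⁻¹ := by
  have hX : X = X' * Ti * Y' * Y⁻¹ * Ti⁻¹ := by
    rw [eq_mul_inv_iff_mul_eq, eq_mul_inv_iff_mul_eq]; exact h
  rw [hX]; group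

/-- Killing the `U`-parts with the Frobenius trick. -/
theorem kill {s1 s2 s3 A B C : G} (hs2 : s2 ∈ P) (hs3 : s3 ∈ P) (hs2n : s2 ≠ 1) (hs3n : s3 ≠ 1)
    (hA : A ∈ U) (hB : B ∈ U) (hC : C ∈ U)
    (e1 : tel s y ^ (-2 : ℤ) * s1 * tel s y = A * s2 * B * (tel s y)⁻¹ * s3 * C)
    (e2 : tel s y ^ (-2 : ℤ) * s1 * tel s y
      = A ^ p * s2 * B ^ p * (tel s y)⁻¹ * s3 * C ^ p) :
    A = 1 ∧ B = 1 ∧ C = 1 := by
  set T := tel s y with hT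
  have e3 : (A * s2 * B) * T⁻¹ * (s3 * C) = (A ^ p * s2 * B ^ p) * T⁻¹ * (s3 * C ^ p) := by
    have : A * s2 * B * T⁻¹ * s3 * C = A ^ p * s2 * B ^ p * T⁻¹ * s3 * C ^ p := by rw [← e1, ← e2]
    simpa [mul_assoc] using this
  have e4 := cancel_mid e3
  rw [inv_inv] at e4
  -- L := (A^p s2 B^p)⁻¹ (A s2 B) ∈ H and T L T⁻¹ ∈ H
  have hH : ∀ a b : G, a ∈ U → b ∈ U → a * s2 * b ∈ D.HH := fun a b ha hb =>
    D.HH.mul_mem (D.HH.mul_mem (D.U_le_HH ha) (D.P_le_HH hs2)) (D.U_le_HH hb)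
  have hL : (A ^ p * s2 * B ^ p)⁻¹ * (A * s2 * B) ∈ D.HH :=
    D.HH.mul_mem (D.HH.inv_mem (hH _ _ (U.pow_mem hA p) (U.pow_mem hB p))) (hH _ _ hA hB)
  have hY : s3 * C ^ p * (s3 * C)⁻¹ ∈ D.HH :=
    D.HH.mul_mem (D.HH.mul_mem (D.P_le_HH hs3) (D.U_le_HH (U.pow_mem hC p)))
      (D.HH.inv_mem (D.HH.mul_mem (D.P_le_HH hs3) (D.U_le_HH hC)))
  have hTL : T ^ (1 : ℤ) * ((A ^ p * s2 * B ^ p)⁻¹ * (A * s2 * B)) * (T ^ (1 : ℤ))⁻¹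
      = s3 * C ^ p * (s3 * C)⁻¹ := by
    rw [e4, zpow_one]; group
  have hp1 : ¬ (p : ℤ) ∣ 1 := by
    intro h
    have := Int.natCast_dvd_natCast.mp (by simpa using h : (p : ℤ) ∣ ((1 : ℕ) : ℤ))
    exact hp.out.one_lt.ne' (Nat.dvd_one.mp this)
  have hLU : (A ^ p * s2 * B ^ p)⁻¹ * (A * s2 * B) ∈ U :=
    D.step3 1 hp1 hL (by rw [hT] at hTL; rw [hTL]; exact hY)
  have hYU : s3 * C ^ p * (s3 * C)⁻¹ ∈ U := by
    rw [← hTL]; exact D.conjU 1 hLU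
  have hC1 : C = 1 := by
    have h1 : s3 * (C ^ p * C⁻¹) * s3⁻¹ ∈ U := by
      have : s3 * (C ^ p * C⁻¹) * s3⁻¹ = s3 * C ^ p * (s3 * C)⁻¹ := by group
      rw [this]; exact hYU
    have h2 := D.semi' (U.mul_mem (U.pow_mem hC p) (U.inv_mem hC)) hs3 hs3n h1
    exact D.eq_one_of_pow_p_eq hC (mul_inv_eq_one.mp h2)
  subst hC1
  have hL1 : (A ^ p * s2 * B ^ p)⁻¹ * (A * s2 * B) = 1 := by
    rw [e4]; simp
  have e5 : A * s2 * B = A ^ p * s2 * B ^ p := by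
    have := inv_mul_eq_one.mp hL1
    exact this.symm
  have hA1 : A = 1 := by
    have h1 : s2⁻¹ * ((A ^ p)⁻¹ * A) * s2⁻¹⁻¹ = B ^ p * B⁻¹ := by
      have : (A ^ p)⁻¹ * (A * s2 * B) * B⁻¹ = (A ^ p)⁻¹ * (A ^ p * s2 * B ^ p) * B⁻¹ := by rw [e5]
      have h' : (A ^ p)⁻¹ * A * s2 = s2 * (B ^ p * B⁻¹) := by
        simpa [mul_assoc] using this
      calc s2⁻¹ * ((A ^ p)⁻¹ * A) * s2⁻¹⁻¹ = s2⁻¹ * ((A ^ p)⁻¹ * A * s2) := by group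
        _ = s2⁻¹ * (s2 * (B ^ p * B⁻¹)) := by rw [h']
        _ = B ^ p * B⁻¹ := by group
    have h2 : s2⁻¹ * ((A ^ p)⁻¹ * A) * s2⁻¹⁻¹ ∈ U := by
      rw [h1]; exact U.mul_mem (U.pow_mem hB p) (U.inv_mem hB)
    have h3 := D.semi' (U.mul_mem (U.inv_mem (U.pow_mem hA p)) hA) (P.inv_mem hs2)
      (inv_ne_one.mpr hs2n) h2
    have h4 : A ^ p = A := by
      have := inv_mul_eq_one.mp h3
      exact this
    exact D.eq_one_of_pow_p_eq hA h4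
  subst hA1
  have hB1 : B = 1 := by
    have h1 : B = B ^ p := by
      have : s2 * B = s2 * B ^ p := by simpa using e5
      exact mul_left_cancel this
    exact D.eq_one_of_pow_p_eq hB h1.symm
  exact ⟨rfl, hB1, rfl⟩

omit D hp in
theorem conjz_pow (T a : G) (j : ℤ) (n : ℕ) :
    (T ^ j * a * T ^ (-j)) ^ n = T ^ j * a ^ n * T ^ (-j) := by
  rw [zpow_neg, conj_pow]

theorem mul_pow_U {a b : G} (ha : a ∈ U) (hb : b ∈ U) (n : ℕ) : (a * b) ^ n = a ^ n * b ^ n :=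
  Commute.mul_pow (D.hUc a ha b hb) n

theorem s_pow_ne_one {k : ℕ} (hk : ¬ p ∣ k) : s ^ k ≠ 1 := by
  intro h
  apply hk
  have := orderOf_dvd_of_pow_eq_one h
  rwa [D.orderOf_s] at this

theorem not_dvd_one : ¬ (p : ℤ) ∣ 1 := by
  intro h
  have := Int.natCast_dvd_natCast.mp (by simpa using h : (p : ℤ) ∣ ((1 : ℕ) : ℤ))
  exact hp.out.one_lt.ne' (Nat.dvd_one.mp this)

theorem not_dvd_two : ¬ (p : ℤ) ∣ 2 := by
  intro h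
  have h2 : p ∣ 2 := Int.natCast_dvd_natCast.mp (by simpa using h : (p : ℤ) ∣ ((2 : ℕ) : ℤ))
  have := (Nat.prime_dvd_prime_iff_eq hp.out Nat.prime_two).mp h2
  exact D.hp2 this

/-- The relation `(†)` in `K = ⟨s, t⟩`. -/
theorem dagger {a u v : G} (ha : a ∈ U) (hu : u ∈ U) (hv : v ∈ U)
    (h : s ^ (2 : ℤ) * a * s⁻¹ = u * s * v) :
    ∃ k1 k2 k3 : ℕ, ¬ p ∣ k1 ∧ ¬ p ∣ k2 ∧ ¬ p ∣ k3 ∧
      (∃ u1 ∈ U, ∃ v1 ∈ U,
        s⁻¹ * (tel s y ^ (3 : ℤ) * a * tel s y ^ (-3 : ℤ)) * s ^ (2 : ℤ) = u1 * s ^ k1 * v1) ∧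
      tel s y ^ (-2 : ℤ) * s ^ k1 * tel s y = s ^ k2 * (tel s y)⁻¹ * s ^ k3 := by
  set T := tel s y with hT
  have hg1 : T ^ (3 : ℤ) * a * T ^ (-3 : ℤ) ∈ U := by
    have := D.conjU 3 ha
    rwa [← zpow_neg] at this
  have hg2 : T * u * T⁻¹ ∈ U := by
    have := D.conjU 1 hu
    simpa using this
  have hg3 : T ^ (2 : ℤ) * v * T ^ (-2 : ℤ) ∈ U := by
    have := D.conjU 2 hv
    rwa [← zpow_neg] at this
  obtain ⟨k1, hk1, u1, hu1, v1, hv1, d1⟩ := D.decomp (-1) 2 hg1 (by norm_num; exact D.not_dvd_one)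
  obtain ⟨k2, hk2, u2, hu2, v2, hv2, d2⟩ := D.decomp (-3) 2 hg2
    (by norm_num; exact D.not_dvd_one)
  obtain ⟨k3, hk3, u3, hu3, v3, hv3, d3⟩ := D.decomp (-1) 3 hg3 (by norm_num; exact D.not_dvd_two)
  have f1 := D.hfrob (-1) 2 k1 _ u1 v1 hg1 hu1 hv1 d1
  have f2 := D.hfrob (-3) 2 k2 _ u2 v2 hg2 hu2 hv2 d2
  have f3 := D.hfrob (-1) 3 k3 _ u3 v3 hg3 hu3 hv3 d3
  have he := D.hfrob 2 (-1) 1 a u v ha hu hv (by simpa using h)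
  have h' : s ^ (2 : ℤ) * a ^ p * s⁻¹ = u ^ p * s * v ^ p := by simpa using he
  have tri1 := D.triangle a u v h
  have tri2 := D.triangle (a ^ p) (u ^ p) (v ^ p) h'
  rw [zpow_neg_one] at d1 d3 f1 f3
  have T1 : T ^ (-2 : ℤ) * (u1 * s ^ k1 * v1) * T
      = (u2 * s ^ k2 * v2) * T⁻¹ * (u3 * s ^ k3 * v3) := by
    rw [← d1, ← d2, ← d3]; exact tri1
  have T2 : T ^ (-2 : ℤ) * (u1 ^ p * s ^ k1 * v1 ^ p) * T
      = (u2 ^ p * s ^ k2 * v2 ^ p) * T⁻¹ * (u3 ^ p * s ^ k3 * v3 ^ p) := by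
    rw [← f1, ← f2, ← f3, conjz_pow, conj_pow, conjz_pow]; exact tri2
  have r1 := rearr T u1 (s ^ k1) v1 u2 (s ^ k2) v2 u3 (s ^ k3) v3 T1
  have r2 := rearr T (u1 ^ p) (s ^ k1) (v1 ^ p) (u2 ^ p) (s ^ k2) (v2 ^ p) (u3 ^ p) (s ^ k3)
    (v3 ^ p) T2
  -- the U-parts
  have hw1 : T ^ (-2 : ℤ) * u1 * T ^ (2 : ℤ) ∈ U := by
    have := D.conjU (-2) hu1
    rwa [← zpow_neg, neg_neg] at this
  have hw2 : T⁻¹ * u3 * T ∈ U := by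
    have := D.conjU' 1 hu3
    simpa using this
  have hw3 : T⁻¹ * v1 * T ∈ U := by
    have := D.conjU' 1 hv1
    simpa using this
  have hA : (T ^ (-2 : ℤ) * u1 * T ^ (2 : ℤ))⁻¹ * u2 ∈ U := U.mul_mem (U.inv_mem hw1) hu2
  have hB : v2 * (T⁻¹ * u3 * T) ∈ U := U.mul_mem hv2 hw2
  have hC : v3 * (T⁻¹ * v1 * T)⁻¹ ∈ U := U.mul_mem hv3 (U.inv_mem hw3)
  have eA : (T ^ (-2 : ℤ) * u1 ^ p * T ^ (2 : ℤ))⁻¹ * u2 ^ p
      = ((T ^ (-2 : ℤ) * u1 * T ^ (2 : ℤ))⁻¹ * u2) ^ p := by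
    rw [D.mul_pow_U (U.inv_mem hw1) hu2, inv_pow]
    congr 2
    have := conjz_pow T u1 (-2) p
    rw [neg_neg] at this
    exact this.symm
  have eB : v2 ^ p * (T⁻¹ * u3 ^ p * T) = (v2 * (T⁻¹ * u3 * T)) ^ p := by
    rw [D.mul_pow_U hv2 hw2]
    congr 1
    have := conj_pow (a := T⁻¹) (b := u3) (i := p)
    rw [inv_inv] at this
    exact this.symm
  have eC : v3 ^ p * (T⁻¹ * v1 ^ p * T)⁻¹ = (v3 * (T⁻¹ * v1 * T)⁻¹) ^ p := by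
    rw [D.mul_pow_U hv3 (U.inv_mem hw3), inv_pow]
    congr 2
    have := conj_pow (a := T⁻¹) (b := v1) (i := p)
    rw [inv_inv] at this
    exact this.symm
  rw [eA, eB, eC] at r2
  obtain ⟨hA1, hB1, hC1⟩ := D.kill (P.pow_mem D.hsP k2) (P.pow_mem D.hsP k3)
    (D.s_pow_ne_one hk2) (D.s_pow_ne_one hk3) hA hB hC r1 r2
  refine ⟨k1, k2, k3, hk1, hk2, hk3, ⟨u1, hu1, v1, hv1, d1⟩, ?_⟩
  rw [r1, hA1, hB1, hC1]; simp

/-! ### The endgame inside `Q ⋊ ⟨s⟩` -/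

omit D hp in
theorem add_aux {A : Type*} [AddCommGroup A] (a b c e' X : A) :
    (-a + (c + (b + X))) + -(-a + b) + (-a + e') = c + (-a + (e' + X)) := by abel

omit D hp in
theorem comm_aux {A : Type*} [CommGroup A] (a b c e' X : A) :
    (a⁻¹ * (c * (b * X))) * (a⁻¹ * b)⁻¹ * (a⁻¹ * e') = c * (a⁻¹ * (e' * X)) :=
  add_aux (A := Additive A) a b c e' X

/-- The commutative group structure on `Q`. -/
@[reducible] def instQ : CommGroup ↥Q :=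
  { (inferInstance : Group ↥Q) with
    mul_comm := fun a b => Subtype.ext (D.hQc a a.2 b b.2) }

/-- Conjugation by `s^i` on `Q`. -/
def zc (i : ℤ) : ↥Q →* ↥Q where
  toFun m := ⟨s ^ i * m * (s ^ i)⁻¹, D.conjQ i m.2⟩
  map_one' := by ext; simp
  map_mul' a b := by ext; simp only [Subgroup.coe_mul]; group

theorem zc_coe (i : ℤ) (m : ↥Q) : ((D.zc i m : ↥Q) : G) = s ^ i * m * (s ^ i)⁻¹ := rfl

theorem zc_add (i j : ℤ) (m : ↥Q) : D.zc (i + j) m = D.zc i (D.zc j m) := by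
  ext; simp only [zc_coe, zpow_add]; group

theorem zc_zero (m : ↥Q) : D.zc 0 m = m := by
  ext; simp [zc_coe]

theorem zc_p (m : ↥Q) : D.zc (p : ℤ) m = m := by
  ext; simp [zc_coe, zpow_natCast, D.s_pow_p]

theorem zc_comm (i j : ℤ) (m : ↥Q) : D.zc i (D.zc j m) = D.zc j (D.zc i m) := by
  rw [← zc_add, ← zc_add, add_comm]

/-- `q j = t^j s^{-j}` as an element of `Q`. -/
def qq (j : ℤ) : ↥Q := ⟨tel s y ^ j * s ^ (-j), D.q_mem j⟩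

theorem qq_coe (j : ℤ) : ((D.qq j : ↥Q) : G) = tel s y ^ j * s ^ (-j) := rfl

theorem cocycle (i j : ℤ) : D.qq (i + j) = D.qq i * D.zc i (D.qq j) := by
  ext; simp only [qq_coe, zc_coe, Subgroup.coe_mul, zpow_add, neg_add, zpow_neg]; group

theorem qq_zero : D.qq 0 = 1 := by
  ext; simp [qq_coe]

/-- Elements of the form `w (s w s⁻¹)⁻¹`. -/
def InM (m : ↥Q) : Prop := ∃ w : ↥Q, m = w * (D.zc 1 w)⁻¹

theorem InM_one : D.InM 1 := ⟨1, by simp⟩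

theorem InM_mul {m m' : ↥Q} (h : D.InM m) (h' : D.InM m') : D.InM (m * m') := by
  letI := D.instQ
  obtain ⟨w, rfl⟩ := h
  obtain ⟨w', rfl⟩ := h'
  refine ⟨w * w', ?_⟩
  rw [map_mul, mul_inv, mul_mul_mul_comm]

theorem InM_inv {m : ↥Q} (h : D.InM m) : D.InM m⁻¹ := by
  letI := D.instQ
  obtain ⟨w, rfl⟩ := h
  refine ⟨w⁻¹, ?_⟩
  rw [map_inv, mul_inv]

theorem InM_zc (i : ℤ) {m : ↥Q} (h : D.InM m) : D.InM (D.zc i m) := by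
  obtain ⟨w, rfl⟩ := h
  refine ⟨D.zc i w, ?_⟩
  rw [map_mul, map_inv, zc_comm]

theorem InM_qq_one : D.InM (D.qq 1) := by
  refine ⟨⟨y, D.hyQ⟩, ?_⟩
  ext
  simp only [qq_coe, Subgroup.coe_mul, Subgroup.coe_inv, zc_coe, zpow_one, tel]
  group

theorem InM_qq (j : ℤ) : D.InM (D.qq j) := by
  have hneg : D.InM (D.qq (-1)) := by
    have h0 := D.cocycle (-1) 1
    rw [show (-1 : ℤ) + 1 = 0 by norm_num, D.qq_zero] at h0
    have : D.qq (-1) = (D.zc (-1) (D.qq 1))⁻¹ := eq_inv_of_mul_eq_one_left h0.symm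
    rw [this]
    exact D.InM_inv (D.InM_zc (-1) D.InM_qq_one)
  induction j using Int.induction_on with
  | zero => rw [D.qq_zero]; exact D.InM_one
  | succ i ih =>
    rw [D.cocycle]
    exact D.InM_mul ih (D.InM_zc _ D.InM_qq_one)
  | pred i ih =>
    rw [sub_eq_add_neg, D.cocycle]
    exact D.InM_mul ih (D.InM_zc _ hneg)

/-- A `ζ`-fixed element of `M` is trivial (coprime action). -/
theorem eq_one_of_fixed {m : ↥Q} (h : D.InM m) (hfix : D.zc 1 m = m) : m = 1 := by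
  letI := D.instQ
  obtain ⟨w, hw⟩ := h
  have h1 : D.zc 1 w = w * m⁻¹ := by
    rw [hw, mul_inv, inv_inv, ← mul_assoc, mul_inv_cancel, one_mul]
  have h2 : ∀ i : ℕ, D.zc (i : ℤ) w = w * (m ^ i)⁻¹ := by
    intro i
    induction i with
    | zero => simp [D.zc_zero]
    | succ i ih =>
      rw [Nat.cast_succ, add_comm, D.zc_add, ih, map_mul, map_inv, map_pow, hfix, h1, pow_succ,
        mul_inv, mul_assoc, mul_comm (m⁻¹)]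
  have h3 := h2 p
  rw [D.zc_p] at h3
  have h4 : m ^ p = 1 := by
    have : w * 1 = w * (m ^ p)⁻¹ := by rw [mul_one]; exact h3
    have := mul_left_cancel this
    exact inv_eq_one.mp this.symm
  have h5 : ((m : ↥Q) : G) = 1 := by
    apply D.eq_one_of_pow_p_Q m.2
    have := congrArg (fun z : ↥Q => (z : G)) h4
    simpa using this
  exact Subtype.ext h5

/-- Separation of `Q`-part and `s`-part. -/
theorem sep {m m' : ↥Q} {a b : ℤ} (h : (m : G) * s ^ a = (m' : G) * s ^ b) : m = m' := by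
  have h1 : ((m' : G))⁻¹ * (m : G) = s ^ b * (s ^ a)⁻¹ := by
    have : ((m' : G))⁻¹ * ((m : G) * s ^ a) * (s ^ a)⁻¹ = ((m' : G))⁻¹ * ((m' : G) * s ^ b) * (s ^ a)⁻¹ := by
      rw [h]
    simpa [mul_assoc] using this
  have h2 : ((m' : G))⁻¹ * (m : G) ∈ P := by
    rw [h1]; exact P.mul_mem (D.s_zpow_mem b) (P.inv_mem (D.s_zpow_mem a))
  have h3 : ((m' : G))⁻¹ * (m : G) = 1 := D.hPQ _ h2 (Q.mul_mem (Q.inv_mem m'.2) m.2)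
  apply Subtype.ext
  have := inv_mul_eq_one.mp h3
  exact this.symm

omit D hp in
theorem add_aux2 {A : Type*} [AddCommGroup A] (a b c e' X : A) :
    (-a + (c + (b + X))) + (-(-a + b) + (-a + e')) = c + (-a + (e' + X)) := by abel

omit D hp in
theorem comm_aux2 {A : Type*} [CommGroup A] (a b c e' X : A) :
    (a⁻¹ * (c * (b * X))) * ((a⁻¹ * b)⁻¹ * (a⁻¹ * e')) = c * (a⁻¹ * (e' * X)) :=
  add_aux2 (A := Additive A) a b c e' X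

theorem endgame {k1 k2 k3 : ℕ} (hk2 : ¬ p ∣ k2)
    (h : tel s y ^ (-2 : ℤ) * s ^ k1 * tel s y = s ^ k2 * (tel s y)⁻¹ * s ^ k3) :
    (p : ℤ) ∣ (k1 : ℤ) - 1 := by
  set T := tel s y with hT
  -- (i) the Q-part of (†)
  have E1 : D.qq (-2) * D.zc ((k1 : ℤ) - 2) (D.qq 1) = D.zc (k2 : ℤ) (D.qq (-1)) := by
    apply D.sep (a := (k1 : ℤ) - 1) (b := (k2 : ℤ) - 1 + k3)
    simp only [Subgroup.coe_mul, qq_coe, zc_coe]
    have hL : (T ^ (-2 : ℤ) * s ^ (-(-2 : ℤ))) * (s ^ ((k1 : ℤ) - 2) * (T ^ (1 : ℤ) * s ^ (-(1 : ℤ)))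
        * (s ^ ((k1 : ℤ) - 2))⁻¹) * s ^ ((k1 : ℤ) - 1) = T ^ (-2 : ℤ) * s ^ (k1 : ℤ) * T := by group
    have hR : (s ^ (k2 : ℤ) * (T ^ (-1 : ℤ) * s ^ (-(-1 : ℤ))) * (s ^ (k2 : ℤ))⁻¹)
        * s ^ ((k2 : ℤ) - 1 + k3) = s ^ (k2 : ℤ) * T⁻¹ * s ^ (k3 : ℤ) := by group
    rw [hL, hR]
    simpa [zpow_natCast] using h
  -- (ii) algebra in the commutative group Q
  letI := D.instQ
  have c1 : D.qq ((k1 : ℤ) - 1) = D.qq ((k1 : ℤ) - 2) * D.zc ((k1 : ℤ) - 2) (D.qq 1) := by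
    have := D.cocycle ((k1 : ℤ) - 2) 1
    rwa [show (k1 : ℤ) - 2 + 1 = (k1 : ℤ) - 1 by ring] at this
  have c2 : D.qq ((k2 : ℤ) - 1) = D.qq k2 * D.zc k2 (D.qq (-1)) := by
    have := D.cocycle (k2 : ℤ) (-1)
    rwa [← sub_eq_add_neg] at this
  have c3 : D.qq ((k1 : ℤ) - 1) = D.qq (-1) * D.zc (-1) (D.qq k1) := by
    have := D.cocycle (-1) (k1 : ℤ)
    rwa [show (-1 : ℤ) + k1 = k1 - 1 by ring] at this
  have c4 : D.qq ((k2 : ℤ) - 1) = D.qq (-1) * D.zc (-1) (D.qq k2) := by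
    have := D.cocycle (-1) (k2 : ℤ)
    rwa [show (-1 : ℤ) + k2 = k2 - 1 by ring] at this
  have c5 : D.qq (-2) = D.qq (-1) * D.zc (-1) (D.qq (-1)) := by
    have := D.cocycle (-1) (-1)
    rwa [show (-1 : ℤ) + -1 = -2 by norm_num] at this
  have c6 : D.qq ((k1 : ℤ) - 2) = D.qq (-1) * D.zc (-1) (D.qq ((k1 : ℤ) - 1)) := by
    have := D.cocycle (-1) ((k1 : ℤ) - 1)
    rwa [show (-1 : ℤ) + ((k1 : ℤ) - 1) = k1 - 2 by ring] at this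
  have z3 : D.zc (-1) (D.qq k1) = (D.qq (-1))⁻¹ * D.qq ((k1 : ℤ) - 1) :=
    eq_inv_mul_of_mul_eq c3.symm
  have z4 : D.zc (-1) (D.qq k2) = (D.qq (-1))⁻¹ * D.qq ((k2 : ℤ) - 1) :=
    eq_inv_mul_of_mul_eq c4.symm
  have z5 : D.zc (-1) (D.qq (-1)) = (D.qq (-1))⁻¹ * D.qq (-2) :=
    eq_inv_mul_of_mul_eq c5.symm
  have z6 : D.zc (-1) (D.qq ((k1 : ℤ) - 1)) = (D.qq (-1))⁻¹ * D.qq ((k1 : ℤ) - 2) :=
    eq_inv_mul_of_mul_eq c6.symm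
  have hd : D.qq k2 * D.zc (-1) (D.qq k1)
      = D.qq k2 * ((D.qq (-1))⁻¹ * D.qq ((k1 : ℤ) - 1)) := by rw [z3]
  have hzd : D.zc (-1) (D.qq k2 * D.zc (-1) (D.qq k1))
      = ((D.qq (-1))⁻¹ * D.qq ((k2 : ℤ) - 1))
        * (((D.qq (-1))⁻¹ * D.qq (-2))⁻¹ * ((D.qq (-1))⁻¹ * D.qq ((k1 : ℤ) - 2))) := by
    rw [hd, map_mul, map_mul, map_inv, z4, z5, z6]
  have hfixd : D.zc (-1) (D.qq k2 * D.zc (-1) (D.qq k1)) = D.qq k2 * D.zc (-1) (D.qq k1) := by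
    rw [hzd, hd, c1, c2, ← E1]
    exact comm_aux2 _ _ _ _ _
  have hfix1 : D.zc 1 (D.qq k2 * D.zc (-1) (D.qq k1)) = D.qq k2 * D.zc (-1) (D.qq k1) := by
    have := congrArg (D.zc 1) hfixd
    rw [← D.zc_add, show (1 : ℤ) + -1 = 0 by norm_num, D.zc_zero] at this
    exact this.symm
  have hdM : D.InM (D.qq k2 * D.zc (-1) (D.qq k1)) :=
    D.InM_mul (D.InM_qq _) (D.InM_zc _ (D.InM_qq _))
  have hd1 := D.eq_one_of_fixed hdM hfix1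
  -- (iii) the relation (††)
  have hdd : T ^ (k2 : ℤ) * s ^ (-(k2 : ℤ) - 1) * T ^ (k1 : ℤ) = s ^ ((k1 : ℤ) - 1) := by
    have := congrArg (fun z : ↥Q => (z : G)) hd1
    simp only [Subgroup.coe_mul, qq_coe, zc_coe, Subgroup.coe_one] at this
    calc T ^ (k2 : ℤ) * s ^ (-(k2 : ℤ) - 1) * T ^ (k1 : ℤ)
        = (T ^ (k2 : ℤ) * s ^ (-(k2 : ℤ)) * (s ^ (-1 : ℤ) * (T ^ (k1 : ℤ) * s ^ (-(k1 : ℤ)))
            * (s ^ (-1 : ℤ))⁻¹)) * s ^ ((k1 : ℤ) - 1) := by group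
      _ = s ^ ((k1 : ℤ) - 1) := by rw [this, one_mul]
  -- (iv) conclusion
  by_contra hne
  have hk2' : ¬ (p : ℤ) ∣ (k2 : ℤ) := fun h => hk2 (Int.natCast_dvd_natCast.mp h)
  have e1 : T ^ (k2 : ℤ) * s ^ (-(k2 : ℤ) - 1) = s ^ ((k1 : ℤ) - 1) * T ^ (-(k1 : ℤ)) := by
    rw [← hdd]; group
  have hw : ∀ g ∈ U, s ^ (-(k2 : ℤ) - 1) * g * (s ^ (-(k2 : ℤ) - 1))⁻¹ ∈ U := by
    intro g hg
    have hmem : s ^ (-(k2 : ℤ) - 1) * g * (s ^ (-(k2 : ℤ) - 1))⁻¹ ∈ D.HH :=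
      D.HH.mul_mem (D.HH.mul_mem (D.P_le_HH (D.s_zpow_mem _)) (D.U_le_HH hg))
        (D.HH.inv_mem (D.P_le_HH (D.s_zpow_mem _)))
    apply D.step3 (k2 : ℤ) hk2' hmem
    have e2 : tel s y ^ (k2 : ℤ) * (s ^ (-(k2 : ℤ) - 1) * g * (s ^ (-(k2 : ℤ) - 1))⁻¹)
        * (tel s y ^ (k2 : ℤ))⁻¹
        = (T ^ (k2 : ℤ) * s ^ (-(k2 : ℤ) - 1)) * g * (T ^ (k2 : ℤ) * s ^ (-(k2 : ℤ) - 1))⁻¹ := by
      rw [hT]; group
    rw [e2, e1]
    have e3 : s ^ ((k1 : ℤ) - 1) * T ^ (-(k1 : ℤ)) * g * (s ^ ((k1 : ℤ) - 1) * T ^ (-(k1 : ℤ)))⁻¹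
        = s ^ ((k1 : ℤ) - 1) * (T ^ (-(k1 : ℤ)) * g * (T ^ (-(k1 : ℤ)))⁻¹)
          * (s ^ ((k1 : ℤ) - 1))⁻¹ := by group
    rw [e3]
    exact D.HH.mul_mem (D.HH.mul_mem (D.P_le_HH (D.s_zpow_mem _)) (D.U_le_HH (D.conjU _ hg)))
      (D.HH.inv_mem (D.P_le_HH (D.s_zpow_mem _)))
  have hw1 : s ^ (-(k2 : ℤ) - 1) = 1 := by
    by_contra hcon
    exact D.not_normalizes (D.s_zpow_mem _) hcon hw
  have hk2p : (p : ℤ) ∣ -(k2 : ℤ) - 1 := (D.s_zpow_eq_one_iff _).mp hw1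
  have hT1 : T ^ ((k2 : ℤ) + 1) = 1 := by
    obtain ⟨c, hc⟩ := hk2p
    have : (k2 : ℤ) + 1 = (p : ℤ) * (-c) := by rw [mul_neg, ← hc]; ring
    rw [this, zpow_mul, zpow_natCast, D.tel_pow_p, one_zpow]
  have hTe : T ^ ((k1 : ℤ) - 1) = s ^ ((k1 : ℤ) - 1) := by
    rw [hw1, mul_one] at hdd
    calc T ^ ((k1 : ℤ) - 1) = T ^ ((k2 : ℤ) + 1) * T ^ ((k1 : ℤ) - 1) := by rw [hT1, one_mul]
      _ = T ^ (k2 : ℤ) * T ^ (k1 : ℤ) := by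
        rw [← zpow_add, ← zpow_add]; congr 1; ring
      _ = s ^ ((k1 : ℤ) - 1) := hdd
  refine D.not_normalizes (D.s_zpow_mem ((k1 : ℤ) - 1))
    (fun h => hne ((D.s_zpow_eq_one_iff _).mp h)) ?_
  intro g hg
  rw [← hTe]
  exact D.conjU _ hg

/-- **Lemma C.3, Step 4.** -/
theorem core {a u v : G} (ha : a ∈ U) (hu : u ∈ U) (hv : v ∈ U)
    (h : s ^ (2 : ℤ) * a * s⁻¹ = u * s * v) :
    ∃ u1 ∈ U, ∃ v1 ∈ U,
      s⁻¹ * (tel s y ^ (3 : ℤ) * a * tel s y ^ (-3 : ℤ)) * s ^ (2 : ℤ) = u1 * s * v1 := by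
  obtain ⟨k1, k2, k3, hk1, hk2, hk3, ⟨u1, hu1, v1, hv1, d1⟩, hd⟩ := D.dagger ha hu hv h
  have hdvd := D.endgame hk2 hd
  have hs : s ^ k1 = s := by
    have h1 : s ^ ((k1 : ℤ) - 1) = 1 := (D.s_zpow_eq_one_iff _).mpr hdvd
    have h2 : s ^ (k1 : ℤ) = s ^ ((k1 : ℤ) - 1) * s := by
      rw [← zpow_add_one]; congr 1; ring
    rw [← zpow_natCast, h2, h1, one_mul]
  exact ⟨u1, hu1, v1, hv1, by rw [d1, hs]⟩

end basic

end Data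

end Cfsg.Agent.Lib.Helper52.AppC
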